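import Cfsg.Agent.ThreeSizes.CA

/-!
Three class sizes: the case in which the middle size divides the large one.
-/

set_option autoImplicit false
set_option linter.style.haveILetI false
set_option linter.unusedSectionVars false

namespace Cfsg.Agent.ThreeSizes

open Subgroup TwoRegSizes

universe u

variable {G : Type u} [Group G] [Finite G]

/-- The two noncentral sizes are `n₂` and `n₂ * e`. -/
structure Div (G : Type u) [Group G] (n₂ e : ℕ) : Prop where
  sizes : ∀ x : G, x ∉ center G →
    (centralizer ({x} : Set G)).index = n₂ * e ∨ (centralizer ({x} : Set G)).index = n₂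
  n_pos : 0 < n₂
  e_gt : 1 < e
  ns : ¬ Group.IsSolvable G

variable {n₂ e : ℕ}

theorem Div.not_dvd (K : Div G n₂ e) : ¬ n₂ * e ∣ n₂ := fun h => by
  have h1 := Nat.le_of_dvd K.n_pos h
  have h2 := Nat.mul_le_mul_left n₂ (show 2 ≤ e from K.e_gt)
  have := K.n_pos
  omega

theorem Div.card_large (K : Div G n₂ e) {x y : G} (hx : (centralizer ({x} : Set G)).index = n₂)
    (hy : (centralizer ({y} : Set G)).index = n₂ * e) :
    Nat.card (centralizer ({x} : Set G)) = Nat.card (centralizer ({y} : Set G)) * e := by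
  have h := (card_centralizer_mul x).trans (card_centralizer_mul y).symm
  rw [hx, hy, mul_comm n₂ e, ← mul_assoc] at h
  exact Nat.eq_of_mul_eq_mul_right K.n_pos h

theorem Div.part_le (K : Div G n₂ e) {x y : G} (hx : (centralizer ({x} : Set G)).index = n₂)
    (hy : y ∉ center G) (t : ℕ) : (Nat.card (centralizer ({y} : Set G))).factorization t ≤
      (Nat.card (centralizer ({x} : Set G))).factorization t := by
  rcases K.sizes y hy with h | h
  · exact (Nat.factorization_le_iff_dvd Nat.card_pos.ne' Nat.card_pos.ne').2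
      ⟨e, K.card_large hx h⟩ t
  · rw [card_centralizer_eq (hx.trans h.symm)]

theorem Div.large_of_le (K : Div G n₂ e) {x w : G} (hx : (centralizer ({x} : Set G)).index = n₂)
    (hw : w ∉ center G) (hle : centralizer ({x} : Set G) ≤ centralizer ({w} : Set G)) :
    (centralizer ({w} : Set G)).index = n₂ ∧ centralizer ({x} : Set G) = centralizer ({w} : Set G) := by
  have hd := index_dvd_of_le hle
  rw [hx] at hd
  have hw2 : (centralizer ({w} : Set G)).index = n₂ := (K.sizes w hw).resolve_left fun h => K.not_dvd (h ▸ hd)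
  exact ⟨hw2, centralizer_eq_of_le hle (hx.trans hw2.symm)⟩

theorem Div.has_part (K : Div G n₂ e) {x : G} {t : ℕ} (hx : (centralizer ({x} : Set G)).index = n₂)
    (ht : NCC G t) : ∃ w ∈ centralizer ({x} : Set G), (∃ k, w ^ t ^ k = 1) ∧ w ∉ center G := by
  obtain ⟨ht, y, hy, hyc⟩ := ht
  exact exists_part_ge ht hy hyc (K.part_le hx hyc t)

/-- Inside a large centraliser, noncentral elements constrain the ratio of the sizes. -/
theorem Div.inner (K : Div G n₂ e) {x w : G} {q t : ℕ} (hq : q.Prime) (ht : t.Prime) (htq : t ≠ q)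
    (hxq : ∃ k, x ^ q ^ k = 1) (hxc : x ∉ center G) (hx : (centralizer ({x} : Set G)).index = n₂)
    (hw : w ∈ centralizer ({x} : Set G)) (hwt : ∃ k, w ^ t ^ k = 1)
    (hne : ¬ centralizer ({x} : Set G) ≤ centralizer ({w} : Set G)) {l : ℕ} (hl : l.Prime) (hle : l ∣ e) :
    l = q ∨ l = t := by
  set H := centralizer ({x} : Set G) with hH
  have hcen : ∀ u : H, u ∈ center H ↔ H ≤ centralizer ({(u : G)} : Set G) := fun u =>
    ⟨fun h g hg => mem_centralizer_singleton_iff.2 (congrArg Subtype.val (mem_center_iff.1 h ⟨g, hg⟩)),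
      fun h => mem_center_iff.2 fun g => Subtype.ext (mem_centralizer_singleton_iff.1 (h g.2))⟩
  have hsz : TwoSizes q H e := by
    intro u hu huc
    rw [ClassSize.centralizer_subgroupOf]
    show (centralizer ({(u : G)} : Set G)).relIndex H = e
    have hc : Commute x (u : G) := (mem_centralizer_singleton_iff.1 u.2 : (u : G) * x = x * u).symm
    have hco : (orderOf x).Coprime (orderOf (u : G)) := by
      obtain ⟨k, hk⟩ := hxq
      rw [orderOf_coe]
      exact (hu.pow_right k).symm.coprime_dvd_left (orderOf_dvd_of_pow_eq_one hk)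
    have he := Element.centralizer_mul_of_coprime hc hco
    have hxu : x * (u : G) ∉ center G := fun hz => centralizer_ne_top hxc (eq_top_iff.2 fun g _ => by
      have hg : g ∈ centralizer ({x * (u : G)} : Set G) :=
        mem_centralizer_singleton_iff.2 (mem_center_iff.1 hz g)
      rw [he] at hg
      exact hg.1)
    rcases K.sizes _ hxu with h | h
    · have h1 := relIndex_mul_index (inf_le_left : H ⊓ centralizer ({(u : G)} : Set G) ≤ H)
      rw [inf_relIndex_left, hx, ← he, h, mul_comm n₂ e] at h1
      exact Nat.eq_of_mul_eq_mul_right K.n_pos h1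
    · refine absurd ((hcen u).2 ?_) huc
      exact (centralizer_eq_of_le (he.le.trans inf_le_left) (h.trans hx.symm)).ge.trans
        (he.le.trans inf_le_right)
  obtain ⟨kw, hkw⟩ := hwt
  let v : H := ⟨w, hw⟩
  have hvc : v ∉ center H := fun h => hne ((hcen v).1 h)
  have hvq : (orderOf v).Coprime q := coprime_of_pow hq ht htq (k := kw) (Subtype.ext hkw)
  have hidx := hsz v hvq hvc
  by_cases htwo : ∀ r, ∃ t', t' ≠ r ∧ NC q (regCenter H q) t'
  · obtain ⟨S, HS⟩ := hsz.hyp hq htwo
    obtain ⟨A, hA, hA1⟩ := exists_pow_index _ rfl HS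
    obtain ⟨B, hB, hvB⟩ := HS.cover v hvq
    refine Or.inl (hA1 l hl ?_)
    rw [HS.index_eq hA hB]
    exact (hle.trans hidx.symm.dvd).trans (index_dvd_of_le fun b hb =>
      mem_centralizer_singleton_iff.2 (HS.comm B hB b hb v hvB).eq)
  · push Not at htwo
    obtain ⟨r, hr⟩ := htwo
    have htr : t = r := by
      by_contra hne'
      exact hr t hne' ⟨ht, htq, v, ⟨kw, Subtype.ext hkw⟩, fun h => hvc h.1⟩
    by_contra! hlne
    refine not_dvd_index_center hl (fun hN => hr l (htr ▸ hlne.2) (nc_of_ncc hlne.1 hN)) ?_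
    exact (hle.trans hidx.symm.dvd).trans (index_dvd_of_le (center_le_centralizer _))

theorem Div.false_of_two_primes (K : Div G n₂ e) {l₁ l₂ : ℕ} (h₁ : l₁.Prime) (h₁e : l₁ ∣ e)
    (h₂ : l₂.Prime) (h₂e : l₂ ∣ e) (hne : l₁ ≠ l₂) : False := by
  obtain ⟨s, hs1, hs2, hs⟩ := exists_ncc_of_not_solvable K.ns l₁ l₂
  have hcentral : ∀ {x w : G} {q t : ℕ}, q.Prime → t.Prime → t ≠ q → (∃ k, x ^ q ^ k = 1) →
      x ∉ center G → (centralizer ({x} : Set G)).index = n₂ → w ∈ centralizer ({x} : Set G) →
      (∃ k, w ^ t ^ k = 1) → (q = s ∨ t = s) →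
      centralizer ({x} : Set G) ≤ centralizer ({w} : Set G) := by
    intro x w q t hq ht htq hxq hxc hx hw hwt hqt
    by_contra hno
    have a1 := K.inner hq ht htq hxq hxc hx hw hwt hno h₁ h₁e
    have a2 := K.inner hq ht htq hxq hxc hx hw hwt hno h₂ h₂e
    rcases a1 with a1 | a1 <;> rcases a2 with a2 | a2 <;> rcases hqt with b | b <;> omega
  have hab : ∀ x : G, x ∉ center G → (centralizer ({x} : Set G)).index = n₂ →
      ∀ u ∈ centralizer ({x} : Set G), centralizer ({x} : Set G) ≤ centralizer ({u} : Set G) := by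
    intro x hxc hx
    obtain ⟨x', hx', q, hq, hxq, hxc'⟩ := exists_part hxc
    obtain ⟨hx2, hxe⟩ := K.large_of_le hx hxc' (ClassSize.centralizer_le_of_mem_zpowers hx')
    obtain ⟨z, hzs, hzc, hz, hze⟩ : ∃ z : G, (∃ k, z ^ s ^ k = 1) ∧ z ∉ center G ∧
        (centralizer ({z} : Set G)).index = n₂ ∧ centralizer ({x} : Set G) = centralizer ({z} : Set G) := by
      by_cases hqs : q = s
      · exact ⟨x', hqs ▸ hxq, hxc', hx2, hxe⟩
      · obtain ⟨w, hw, hws, hwc⟩ := K.has_part hx2 hs
        obtain ⟨hw2, hwe⟩ := K.large_of_le hx2 hwc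
          (hcentral hq hs.1 (Ne.symm hqs) hxq hxc' hx2 hw hws (Or.inr rfl))
        exact ⟨w, hws, hwc, hw2, hxe.trans hwe⟩
    obtain ⟨t, hts, -, ht⟩ := exists_ncc_of_not_solvable K.ns s s
    obtain ⟨v, hv, hvt, hvc⟩ := K.has_part hz ht
    obtain ⟨hv2, hve⟩ := K.large_of_le hz hvc (hcentral hs.1 ht.1 hts hzs hzc hz hv hvt (Or.inl rfl))
    intro u hu g hg
    rw [hze] at hu hg
    have hmem : u ∈ centralizer ((centralizer ({z} : Set G) : Subgroup G) : Set G) := by
      refine mem_of_primePow fun a ha r j hr hj => mem_centralizer_iff.2 fun c hc => ?_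
      have haC : a ∈ centralizer ({z} : Set G) := zpowers_le.2 hu ha
      have har : ∃ k, a ^ r ^ k = 1 := ⟨j, hj ▸ pow_orderOf_eq_one a⟩
      by_cases hrs : r = s
      · exact mem_centralizer_singleton_iff.1 (hcentral ht.1 hr (hrs ▸ Ne.symm hts) hvt hvc hv2
          (hve ▸ haC) har (Or.inr hrs) (hve ▸ hc))
      · exact mem_centralizer_singleton_iff.1 (hcentral hs.1 hr hrs hzs hzc hz haC har (Or.inl rfl) hc)
    exact mem_centralizer_singleton_iff.2 (mem_centralizer_iff.1 hmem g hg)
  refine K.ns (solvable_of_eqle K.sizes fun x y hx hy hle => ?_)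
  rcases K.sizes x hx with h1 | h1
  · rcases K.sizes y hy with h2 | h2
    · exact centralizer_eq_of_le hle (h1.trans h2.symm)
    · exact le_antisymm hle (hab y hy h2 x (hle (mem_centralizer_singleton_iff.2 rfl)))
  · exact (K.large_of_le h1 hy hle).2

theorem Div.false_of_prime_power (K : Div G n₂ e) {r : ℕ} (hr : r.Prime) (hre : r ∣ e)
    (honly : ∀ l, l.Prime → l ∣ e → l = r) : False := by
  have hcentral : ∀ {x w : G} {q t : ℕ}, q.Prime → t.Prime → t ≠ q → q ≠ r → t ≠ r →
      (∃ k, x ^ q ^ k = 1) → x ∉ center G → (centralizer ({x} : Set G)).index = n₂ →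
      w ∈ centralizer ({x} : Set G) → (∃ k, w ^ t ^ k = 1) →
      centralizer ({x} : Set G) ≤ centralizer ({w} : Set G) := by
    intro x w q t hq ht htq hqr htr hxq hxc hx hw hwt
    by_contra hno
    rcases K.inner hq ht htq hxq hxc hx hw hwt hno hr hre with h | h
    · exact hqr h.symm
    · exact htr h.symm
  have hparts : ∀ x w : G, (∀ a ∈ zpowers w, ∀ l, l.Prime → l ≠ r → (∃ k, a ^ l ^ k = 1) →
      centralizer ({x} : Set G) ≤ centralizer ({a} : Set G)) → (orderOf w).Coprime r →
      centralizer ({x} : Set G) ≤ centralizer ({w} : Set G) := by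
    intro x w h hw g hg
    have hmem : w ∈ centralizer ((centralizer ({x} : Set G) : Subgroup G) : Set G) := by
      refine mem_of_primePow fun a ha l j hl hj => mem_centralizer_iff.2 fun c hc => ?_
      by_cases hlr : l = r
      · rcases Nat.eq_zero_or_pos j with h0 | h0
        · rw [orderOf_eq_one_iff.1 (by rw [hj, h0, pow_zero] : orderOf a = 1), mul_one, one_mul]
        · have := hw.coprime_dvd_left (orderOf_dvd_of_mem_zpowers ha)
          rw [hj, hlr, Nat.coprime_pow_left_iff h0, Nat.coprime_self] at this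
          exact absurd this hr.ne_one
      · exact mem_centralizer_singleton_iff.1 (h a ha l hl hlr ⟨j, hj ▸ pow_orderOf_eq_one a⟩ hc)
    exact mem_centralizer_singleton_iff.2 (mem_centralizer_iff.1 hmem g hg)
  -- large centralisers
  have hlarge : ∀ {x : G} {q : ℕ}, q.Prime → q ≠ r → (∃ k, x ^ q ^ k = 1) → x ∉ center G →
      (centralizer ({x} : Set G)).index = n₂ → ∀ w ∈ centralizer ({x} : Set G), (orderOf w).Coprime r →
      centralizer ({x} : Set G) ≤ centralizer ({w} : Set G) := by
    intro x q hq hqr hxq hxc hx w hw hwr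
    obtain ⟨t, htq, htr, ht⟩ := exists_ncc_of_not_solvable K.ns q r
    obtain ⟨v, hv, hvt, hvc⟩ := K.has_part hx ht
    obtain ⟨hv2, hve⟩ := K.large_of_le hx hvc (hcentral hq ht.1 htq hqr htr hxq hxc hx hv hvt)
    refine hparts x w (fun a ha l hl hlr hal => ?_) hwr
    have haC : a ∈ centralizer ({x} : Set G) := zpowers_le.2 hw ha
    by_cases hlq : l = q
    · rw [hve]
      exact hcentral ht.1 hl (hlq ▸ Ne.symm htq) htr hlr hvt hvc hv2 (hve ▸ haC) hal
    · exact hcentral hq hl hlq hqr hlr hxq hxc hx haC hal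
  have hfac : ∀ t : ℕ, t.Prime → t ≠ r → ∀ x y : G, x ∉ center G → y ∉ center G →
      (Nat.card (centralizer ({x} : Set G))).factorization t =
        (Nat.card (centralizer ({y} : Set G))).factorization t := by
    intro t ht htr x y hx hy
    have key : ∀ x y : G, (centralizer ({x} : Set G)).index = n₂ →
        (centralizer ({y} : Set G)).index = n₂ * e →
        (Nat.card (centralizer ({x} : Set G))).factorization t =
          (Nat.card (centralizer ({y} : Set G))).factorization t := by
      intro x y h1 h2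
      have := K.e_gt
      rw [K.card_large h1 h2, Nat.factorization_mul Nat.card_pos.ne' (by omega), Finsupp.add_apply,
        Nat.factorization_eq_zero_of_not_dvd fun hd => htr (honly t ht hd), add_zero]
    rcases K.sizes x hx with h1 | h1 <;> rcases K.sizes y hy with h2 | h2
    · rw [card_centralizer_eq (h1.trans h2.symm)]
    · exact (key y x h2 h1).symm
    · exact key x y h1 h2
    · rw [card_centralizer_eq (h1.trans h2.symm)]
  -- small centralisers
  have hsmall_le : ∀ {x w : G}, x ∉ center G → (centralizer ({x} : Set G)).index = n₂ * e →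
      Commute x w → (orderOf x).Coprime (orderOf w) →
      centralizer ({x} : Set G) ≤ centralizer ({w} : Set G) := by
    intro x w hxc hx hc hco
    have he := Element.centralizer_mul_of_coprime hc hco
    have hle : centralizer ({x * w} : Set G) ≤ centralizer ({x} : Set G) := he.le.trans inf_le_left
    have hxw : x * w ∉ center G := fun hz => centralizer_ne_top hxc (eq_top_iff.2 fun g _ =>
      hle (mem_centralizer_singleton_iff.2 (mem_center_iff.1 hz g)))
    have h1 : (centralizer ({x * w} : Set G)).index = n₂ * e := (K.sizes _ hxw).resolve_right fun h =>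
      K.not_dvd (hx ▸ h ▸ index_dvd_of_le hle)
    rw [← centralizer_eq_of_le hle (h1.trans hx.symm), he]
    exact inf_le_right
  have hsmall : ∀ {x : G} {q : ℕ}, q.Prime → q ≠ r → (∃ k, x ^ q ^ k = 1) → x ∉ center G →
      (centralizer ({x} : Set G)).index = n₂ * e → ∀ w ∈ centralizer ({x} : Set G), (orderOf w).Coprime r →
      centralizer ({x} : Set G) ≤ centralizer ({w} : Set G) := by
    intro x q hq hqr hxq hxc hx w hw hwr
    obtain ⟨t, htq, htr, ⟨ht, y, hy, hyc⟩⟩ := exists_ncc_of_not_solvable K.ns q r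
    obtain ⟨v, hv, hvt, hvc⟩ := exists_part_ge ht hy hyc (le_of_eq (hfac t ht htr y x hyc hxc))
    have hxv : Commute x v := (mem_centralizer_singleton_iff.1 hv : v * x = x * v).symm
    have hle := hsmall_le hxc hx hxv (coprime_of_pows hq ht (Ne.symm htq) hxq hvt)
    have hv1 : (centralizer ({v} : Set G)).index = n₂ * e := (K.sizes v hvc).resolve_right fun h2 => by
      obtain ⟨k, hk⟩ := hxq
      have h3 := hlarge ht htr hvt hvc h2 x (mem_centralizer_singleton_iff.2 hxv.eq)
        (coprime_of_pow hr hq hqr hk)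
      exact K.not_dvd (hx ▸ h2 ▸ index_dvd_of_le h3)
    have hve := centralizer_eq_of_le hle (hx.trans hv1.symm)
    refine hparts x w (fun a ha l hl hlr hal => ?_) hwr
    have haC : a ∈ centralizer ({x} : Set G) := zpowers_le.2 hw ha
    by_cases hlq : l = q
    · rw [hve] at haC ⊢
      exact hsmall_le hvc hv1 (mem_centralizer_singleton_iff.1 haC : a * v = v * a).symm
        (coprime_of_pows ht hl (hlq ▸ htq) hvt hal)
    · exact hsmall_le hxc hx (mem_centralizer_singleton_iff.1 haC : a * x = x * a).symm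
        (coprime_of_pows hq hl (Ne.symm hlq) hxq hal)
  have hcore : ∀ x : G, (orderOf x).Coprime r → x ∉ center G → ∀ w, (orderOf w).Coprime r →
      w ∈ centralizer ({x} : Set G) → centralizer ({x} : Set G) ≤ centralizer ({w} : Set G) := by
    intro x hxr hxc w hwr hw
    obtain ⟨x', hx', q, hq, hxq, hxc'⟩ := exists_part hxc
    have hqr : q ≠ r := fun e' => by
      obtain ⟨k, hk⟩ := hxq
      subst e'
      exact hxc' (orderOf_eq_one_iff.1 (Nat.eq_one_of_dvd_coprimes
        ((hxr.coprime_dvd_left (orderOf_dvd_of_mem_zpowers hx')).pow_right k) dvd_rfl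
        (orderOf_dvd_of_pow_eq_one hk)) ▸ one_mem _)
    have hle := ClassSize.centralizer_le_of_mem_zpowers hx'
    have hxx : x ∈ centralizer ({x'} : Set G) := hle (mem_centralizer_singleton_iff.2 rfl)
    rcases K.sizes x' hxc' with h' | h'
    · have hx1 : (centralizer ({x} : Set G)).index = n₂ * e := (K.sizes x hxc).resolve_right fun h2 =>
        K.not_dvd (by have hd := index_dvd_of_le hle; rwa [h2, h'] at hd)
      have he := centralizer_eq_of_le hle (hx1.trans h'.symm)
      rw [he] at hw ⊢
      exact hsmall hq hqr hxq hxc' h' w hw hwr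
    · have he : centralizer ({x} : Set G) = centralizer ({x'} : Set G) :=
        le_antisymm hle (hlarge hq hqr hxq hxc' h' x hxx hxr)
      rw [he] at hw ⊢
      exact hlarge hq hqr hxq hxc' h' w hw hwr
  obtain ⟨S, H⟩ := hyp_of_core hr hcore (fun x y _ hx _ hy t ht htr => hfac t ht htr x y hx hy)
    (two_of_not_solvable K.ns r)
  exact K.ns (solvable_of_hyp H)

/-- A group with at most three class sizes is solvable. -/
theorem main (n₁ n₂ : ℕ) (h12 : n₂ < n₁) (h2 : 1 < n₂)
    (h : ∀ x : G, (centralizer ({x} : Set G)).index = 1 ∨ (centralizer ({x} : Set G)).index = n₂ ∨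
      (centralizer ({x} : Set G)).index = n₁) : Group.IsSolvable G := by
  have hs : ∀ x : G, x ∉ center G →
      (centralizer ({x} : Set G)).index = n₁ ∨ (centralizer ({x} : Set G)).index = n₂ := fun x hx =>
    ((h x).resolve_left fun e => hx ((ClassSize.index_centralizer_eq_one_iff x).1 e)).symm
  by_cases hdvd : n₂ ∣ n₁
  · obtain ⟨e, rfl⟩ := hdvd
    by_contra hG
    have he : 1 < e := by
      by_contra hle
      have h3 := Nat.mul_le_mul_left n₂ (show e ≤ 1 by omega)
      rw [mul_one] at h3
      omega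
    have K : Div G n₂ e := ⟨hs, by omega, he, hG⟩
    obtain ⟨r, hr, hre⟩ := Nat.exists_prime_and_dvd (show e ≠ 1 by omega)
    by_cases honly : ∀ l, l.Prime → l ∣ e → l = r
    · exact K.false_of_prime_power hr hre honly
    · push Not at honly
      obtain ⟨l, hl, hle, hlr⟩ := honly
      exact K.false_of_two_primes hl hle hr hre hlr
  · refine solvable_of_eqle hs fun x y hx hy hle => ?_
    rcases hs x hx with a | a <;> rcases hs y hy with b | b
    · exact centralizer_eq_of_le hle (a.trans b.symm)
    · exact absurd (a ▸ b ▸ index_dvd_of_le hle) hdvd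
    · have hd : n₁ ∣ n₂ := a ▸ b ▸ index_dvd_of_le hle
      exact absurd (Nat.le_of_dvd (by omega) hd) (not_le.2 h12)
    · exact centralizer_eq_of_le hle (a.trans b.symm)

end Cfsg.Agent.ThreeSizes
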