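import Cfsg.Agent.TwoRegSizes.Main
import Cfsg.Agent.Char.Burnside
import Cfsg.Agent.S4034

/-!
Solvability criteria in terms of class sizes.
-/

set_option autoImplicit false
set_option linter.style.haveILetI false
set_option linter.unusedSectionVars false

namespace Cfsg.Agent.ThreeSizes

open Subgroup TwoRegSizes

universe u

variable {G : Type u} [Group G] [Finite G]

/-- `t` is a prime with a noncentral `t`-element. -/
def NCC (G : Type u) [Group G] (t : ℕ) : Prop := t.Prime ∧ ∃ x : G, (∃ k, x ^ t ^ k = 1) ∧ x ∉ center G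

theorem not_dvd_index_center {t : ℕ} (ht : t.Prime) (h : ¬ NCC G t) : ¬ t ∣ (center G).index := by
  haveI := Fact.mk ht
  intro hd
  obtain ⟨T⟩ : Nonempty (Sylow t G) := inferInstance
  refine T.not_dvd_index (hd.trans (index_dvd_of_le fun y hy => ?_))
  by_contra hyc
  exact h ⟨ht, y, exists_pow_of_mem_sylow T hy, hyc⟩

theorem isSolvable_of_center_quotient [Group.IsSolvable (G ⧸ center G)] : Group.IsSolvable G :=
  (Group.isSolvable_iff_subgroup_quotient (center G)).2
    ⟨Group.isSolvable_of_comm fun a b => Subtype.ext (mem_center_iff.1 b.2 a), inferInstance⟩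

/-- With at most two noncentral primes a group is solvable. -/
theorem solvable_of_few (a b : ℕ) (h : ∀ t, NCC G t → t = a ∨ t = b) : Group.IsSolvable G := by
  classical
  have ha' : (if a.Prime then a else 2).Prime := by split <;> [assumption; exact Nat.prime_two]
  have hb' : (if b.Prime then b else 2).Prime := by split <;> [assumption; exact Nat.prime_two]
  haveI : Group.IsSolvable (G ⧸ center G) := by
    refine Char.solvable_of_card_eq_pow_mul_pow _ _ ha' hb' _ rfl fun r hr hd => ?_
    rw [← index_eq_card] at hd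
    by_cases hnc : NCC G r
    · rcases h r hnc with e | e
      · left; rw [← e, if_pos hr]
      · right; rw [← e, if_pos hr]
    · exact absurd hd (not_dvd_index_center hr hnc)
  exact isSolvable_of_center_quotient

theorem exists_ncc_of_not_solvable (hG : ¬ Group.IsSolvable G) (a b : ℕ) :
    ∃ t, t ≠ a ∧ t ≠ b ∧ NCC G t := by
  by_contra! hno
  exact hG (solvable_of_few a b fun t ht => by
    by_contra! hne
    exact hno t hne.1 hne.2 ht)

theorem nc_of_ncc {p t : ℕ} (htp : t ≠ p) (h : NCC G t) : NC p (regCenter G p) t := by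
  obtain ⟨ht, x, hx, hxc⟩ := h
  exact ⟨ht, htp, x, hx, fun e => hxc e.1⟩

theorem two_of_not_solvable (hG : ¬ Group.IsSolvable G) (p : ℕ) :
    ∀ q, ∃ t, t ≠ q ∧ NC p (regCenter G p) t := fun q => by
  obtain ⟨t, htq, htp, h⟩ := exists_ncc_of_not_solvable hG q p
  exact ⟨t, htq, nc_of_ncc htp h⟩

theorem solvable_of_hyp {p : ℕ} {Z : Subgroup G} {S : Set (Subgroup G)} (H : Hyp p Z S) :
    Group.IsSolvable G := by
  obtain ⟨A, hA, hidx⟩ := exists_pow_index _ rfl H
  refine S4034.solvable_of_good H.prime (Nat.card G) G le_rfl fun x hx => ?_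
  obtain ⟨B, hB, hxB⟩ := H.cover x hx
  have hle : B ≤ centralizer ({x} : Set G) := fun b hb =>
    mem_centralizer_singleton_iff.2 (H.comm B hB b hb x hxB).eq
  refine ⟨_, Nat.eq_prime_pow_of_unique_prime_dvd index_ne_zero_of_finite fun {t} ht htd => hidx t ht ?_⟩
  rw [H.index_eq hA hB]
  exact htd.trans (index_dvd_of_le hle)

theorem solvable_of_twoSizes {q m : ℕ} (hq : q.Prime) (h : TwoSizes q G m) : Group.IsSolvable G := by
  by_contra hG
  obtain ⟨S, H⟩ := h.hyp hq (two_of_not_solvable hG q)
  exact hG (solvable_of_hyp H)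

/-- A noncentral element has a noncentral part of prime power order. -/
theorem exists_part {x : G} (hx : x ∉ center G) :
    ∃ y ∈ zpowers x, ∃ t : ℕ, t.Prime ∧ (∃ k, y ^ t ^ k = 1) ∧ y ∉ center G := by
  by_contra! hall
  exact hx (mem_of_primePow fun y hy t k ht hk => hall y hy t ht ⟨k, hk ▸ pow_orderOf_eq_one y⟩)

theorem card_centralizer_mul (x : G) :
    Nat.card (centralizer ({x} : Set G)) * (centralizer ({x} : Set G)).index = Nat.card G :=
  card_mul_index _

theorem card_centralizer_eq {x y : G}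
    (h : (centralizer ({x} : Set G)).index = (centralizer ({y} : Set G)).index) :
    Nat.card (centralizer ({x} : Set G)) = Nat.card (centralizer ({y} : Set G)) := by
  have h1 := (card_centralizer_mul x).trans (card_centralizer_mul y).symm
  rw [h] at h1
  exact Nat.eq_of_mul_eq_mul_right (Nat.pos_of_ne_zero index_ne_zero_of_finite) h1

theorem centralizer_eq_of_le {x y : G} (hle : centralizer ({x} : Set G) ≤ centralizer ({y} : Set G))
    (h : (centralizer ({x} : Set G)).index = (centralizer ({y} : Set G)).index) :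
    centralizer ({x} : Set G) = centralizer ({y} : Set G) :=
  eq_of_le_of_card_ge hle (card_centralizer_eq h).ge

theorem centralizer_ne_top {x : G} (hx : x ∉ center G) : centralizer ({x} : Set G) ≠ ⊤ := fun h =>
  hx (mem_center_iff.2 fun g => mem_centralizer_singleton_iff.1 (h ▸ mem_top g : g ∈ centralizer ({x} : Set G)))

/-- A `t`-element outside the centre forces noncentral `t`-elements in any centraliser with at least as
large a `t`-part. -/
theorem exists_part_ge {t : ℕ} (ht : t.Prime) {x y : G} (hy : ∃ k, y ^ t ^ k = 1) (hyc : y ∉ center G)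
    (hle : (Nat.card (centralizer ({y} : Set G))).factorization t ≤
      (Nat.card (centralizer ({x} : Set G))).factorization t) :
    ∃ w ∈ centralizer ({x} : Set G), (∃ k, w ^ t ^ k = 1) ∧ w ∉ center G := by
  haveI := Fact.mk ht
  obtain ⟨ky, hky⟩ := hy
  by_contra! hall
  obtain ⟨R⟩ : Nonempty (Sylow t (centralizer ({x} : Set G))) := inferInstance
  have h1 : (R : Subgroup (centralizer ({x} : Set G))).map (centralizer ({x} : Set G)).subtype ≤
      tPart t (center G) := by
    rintro _ ⟨v, hv, rfl⟩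
    obtain ⟨i, hi⟩ := R.2 ⟨v, hv⟩
    have hi' : (v : G) ^ t ^ i = 1 := congrArg (fun w : R => ((w : centralizer ({x} : Set G)) : G)) hi
    exact mem_tPart_of_pow (hall v v.2 ⟨i, hi'⟩) hi'
  have hcomm : ∀ a ∈ center G, ∀ b ∈ center G, Commute a b := fun a _ b hb => mem_center_iff.1 hb a
  have hlec : tPart t (center G) ⊔ zpowers y ≤ centralizer ({y} : Set G) :=
    sup_le ((tPart_le _ _).trans (center_le_centralizer _))
      (zpowers_le.2 (mem_centralizer_singleton_iff.2 rfl))
  haveI : (tPart t (center G)).Normal := ⟨fun n hn g => by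
    rw [mem_center_iff.1 (tPart_le t (center G) hn) g, mul_inv_cancel_right]; exact hn⟩
  have hzy : IsPGroup t (zpowers y) := IsPGroup.of_card_dvd_pow (n := ky) (by
    rw [Nat.card_zpowers]; exact orderOf_dvd_of_pow_eq_one hky)
  obtain ⟨i, hi⟩ := IsPGroup.iff_card.1 ((isPGroup_tPart hcomm).to_sup_of_normal_left hzy :
    IsPGroup t ↥(tPart t (center G) ⊔ zpowers y))
  have h2 : Nat.card ↥(tPart t (center G) ⊔ zpowers y) ≤ Nat.card (tPart t (center G)) := by
    refine le_trans ?_ (card_le_of_le h1)
    rw [card_map_of_injective (centralizer ({x} : Set G)).subtype_injective, R.card_eq_multiplicity, hi]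
    exact Nat.pow_le_pow_right ht.pos (((ht.pow_dvd_iff_le_factorization Nat.card_pos.ne').1
      (hi ▸ card_dvd_of_le hlec)).trans hle)
  exact hyc (tPart_le t (center G) ((eq_of_le_of_card_ge le_sup_left h2).ge (mem_sup_right (mem_zpowers y))))

/-- The axioms from centralisers whose `p'`-elements are central in them. -/
theorem hyp_of_core {p : ℕ} (hp : p.Prime)
    (hcore : ∀ x : G, (orderOf x).Coprime p → x ∉ center G → ∀ w, (orderOf w).Coprime p →
      w ∈ centralizer ({x} : Set G) → centralizer ({x} : Set G) ≤ centralizer ({w} : Set G))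
    (hv : ∀ x y : G, (orderOf x).Coprime p → x ∉ center G → (orderOf y).Coprime p → y ∉ center G →
      ∀ t : ℕ, t.Prime → t ≠ p → (Nat.card (centralizer ({x} : Set G))).factorization t =
        (Nat.card (centralizer ({y} : Set G))).factorization t)
    (htwo : ∀ q, ∃ t, t ≠ q ∧ NC p (regCenter G p) t) :
    ∃ S : Set (Subgroup G), Hyp p (regCenter G p) S := by
  classical
  haveI := Fact.mk hp
  let mem : ∀ x : {x : G // (orderOf x).Coprime p ∧ x ∉ center G}, Subgroup G := fun x =>
    { carrier := {y | (orderOf y).Coprime p ∧ y ∈ centralizer ({(x : G)} : Set G)}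
      one_mem' := ⟨by simp, one_mem _⟩
      inv_mem' := fun {a} ha => ⟨by rw [orderOf_inv]; exact ha.1, inv_mem ha.2⟩
      mul_mem' := fun {a b} ha hb => ⟨by
        have hc : Commute a b :=
          mem_centralizer_singleton_iff.1 (hcore x x.2.1 x.2.2 b hb.1 hb.2 ha.2)
        exact ((Nat.Coprime.mul_left ha.1 hb.1).coprime_dvd_left (Nat.lcm_dvd_mul _ _)).coprime_dvd_left
          hc.orderOf_mul_dvd_lcm, mul_mem ha.2 hb.2⟩ }
  have heq : ∀ x : {x : G // (orderOf x).Coprime p ∧ x ∉ center G}, ∀ a ∈ mem x, a ∉ regCenter G p →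
      centralizer ({(x : G)} : Set G) = centralizer ({a} : Set G) := fun x a ha haZ =>
    le_antisymm (hcore x x.2.1 x.2.2 a ha.1 ha.2) (hcore a ha.1 (fun e => haZ ⟨e, ha.1⟩) x x.2.1
      (mem_centralizer_singleton_iff.2 (mem_centralizer_singleton_iff.1 ha.2).symm))
  refine ⟨Set.range mem, hp, fun z hz => hz.1, ?_, ?_, ?_, ?_, ?_, ?_, ?_, htwo⟩
  · rintro _ ⟨x, rfl⟩ a ha b hb
    exact mem_centralizer_singleton_iff.1 (hcore x x.2.1 x.2.2 b hb.1 hb.2 ha.2)
  · rintro _ ⟨x, rfl⟩ a ha
    exact ha.1
  · rintro _ ⟨x, rfl⟩ z hz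
    exact ⟨hz.2, center_le_centralizer _ hz.1⟩
  · have hf : ∀ x : {x : G // (orderOf x).Coprime p ∧ x ∉ center G}, ∀ t : ℕ, t.Prime →
        (Nat.card (mem x)).factorization t =
          if t = p then 0 else (Nat.card (centralizer ({(x : G)} : Set G))).factorization t := by
      intro x t ht
      split_ifs with htp
      · subst htp
        refine Nat.factorization_eq_zero_of_not_dvd fun hd => ?_
        obtain ⟨a, ha⟩ := exists_prime_orderOf_dvd_card' (G := mem x) t hd
        have h1 := a.2.1
        rw [orderOf_coe, ha, Nat.coprime_self] at h1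
        exact ht.ne_one h1
      · haveI := Fact.mk ht
        refine le_antisymm ((ht.pow_dvd_iff_le_factorization Nat.card_pos.ne').1
          ((Nat.ordProj_dvd _ t).trans (card_dvd_of_le fun a ha => ha.2))) ?_
        obtain ⟨R⟩ : Nonempty (Sylow t (centralizer ({(x : G)} : Set G))) := inferInstance
        refine (ht.pow_dvd_iff_le_factorization Nat.card_pos.ne').1 ?_
        rw [← R.card_eq_multiplicity, ← card_map_of_injective (centralizer ({(x : G)} : Set G)).subtype_injective]
        refine card_dvd_of_le ?_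
        rintro _ ⟨v, hv, rfl⟩
        obtain ⟨i, hi⟩ := R.2 ⟨v, hv⟩
        exact ⟨coprime_of_pow hp ht htp (show (v : G) ^ t ^ i = 1 from
          congrArg (fun w : R => ((w : centralizer ({(x : G)} : Set G)) : G)) hi), v.2⟩
    rintro _ ⟨x, rfl⟩ _ ⟨y, rfl⟩
    refine Nat.eq_of_factorization_eq Nat.card_pos.ne' Nat.card_pos.ne' fun t => ?_
    by_cases ht : t.Prime
    · rw [hf x t ht, hf y t ht]
      split_ifs with htp
      · rfl
      · exact hv x y x.2.1 x.2.2 y.2.1 y.2.2 t ht htp
    · rw [Nat.factorization_eq_zero_of_not_prime _ ht, Nat.factorization_eq_zero_of_not_prime _ ht]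
  · intro g hg
    by_cases hgc : g ∈ center G
    · obtain ⟨s, -, hs, hsp, y, ⟨ky, hky⟩, hyZ⟩ := htwo 0
      have hy : (orderOf y).Coprime p := coprime_of_pow hp hs hsp hky
      exact ⟨_, ⟨⟨y, hy, fun e => hyZ ⟨e, hy⟩⟩, rfl⟩, hg, center_le_centralizer _ hgc⟩
    · exact ⟨_, ⟨⟨g, hg, hgc⟩, rfl⟩, hg, mem_centralizer_singleton_iff.2 rfl⟩
  · rintro _ ⟨x, rfl⟩ a ha haZ y hy b hb
    have hyC : y ∈ centralizer ({(x : G)} : Set G) := by
      rw [heq x a ha haZ]; exact mem_centralizer_singleton_iff.2 hy
    exact mem_centralizer_singleton_iff.1 (hcore x x.2.1 x.2.2 b hb.1 hb.2 hyC)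
  · rintro _ ⟨x, rfl⟩ a ha haZ y hyo hy
    refine ⟨hyo, ?_⟩
    rw [heq x a ha haZ]
    exact mem_centralizer_singleton_iff.2 hy

end Cfsg.Agent.ThreeSizes
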