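import Cfsg.Agent.ThreeSizes.Basic
import Cfsg.Agent.Lib.ClassSize
import Cfsg.Agent.PGroup.Basic
import Mathlib.GroupTheory.Transfer

/-!
Two noncentral class sizes, with no proper inclusion between centralisers of noncentral elements:
the centralisers are abelian and a class equation forces solvability.
-/

set_option autoImplicit false
set_option linter.style.haveILetI false
set_option linter.unusedSectionVars false

namespace Cfsg.Agent.ThreeSizes

open Subgroup TwoRegSizes
open scoped commutatorElement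

universe u

variable {G : Type u} [Group G] [Finite G]

/-- The standing hypothesis for the counting argument. -/
structure Cfg (G : Type u) [Group G] (n₁ n₂ : ℕ) : Prop where
  sizes : ∀ x : G, x ∉ center G →
    (centralizer ({x} : Set G)).index = n₁ ∨ (centralizer ({x} : Set G)).index = n₂
  eqle : ∀ x y : G, x ∉ center G → y ∉ center G →
    centralizer ({x} : Set G) ≤ centralizer ({y} : Set G) →
    centralizer ({x} : Set G) = centralizer ({y} : Set G)
  ns : ¬ Group.IsSolvable G

variable {n₁ n₂ : ℕ}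

theorem Cfg.le_of_coprime (K : Cfg G n₁ n₂) {x w : G} (hx : x ∉ center G) (hc : Commute x w)
    (hco : (orderOf x).Coprime (orderOf w)) :
    centralizer ({x} : Set G) ≤ centralizer ({w} : Set G) := by
  have he := Element.centralizer_mul_of_coprime hc hco
  have hxw : x * w ∉ center G := fun hz => centralizer_ne_top hx (eq_top_iff.2 fun g _ => by
    have hg : g ∈ centralizer ({x * w} : Set G) := mem_centralizer_singleton_iff.2 (mem_center_iff.1 hz g)
    rw [he] at hg
    exact hg.1)
  rw [← K.eqle _ _ hxw hx (he.le.trans inf_le_left), he]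
  exact inf_le_right

theorem coprime_of_pows {t r : ℕ} (ht : t.Prime) (hr : r.Prime) (hne : t ≠ r) {x w : G}
    (hx : ∃ k, x ^ t ^ k = 1) (hw : ∃ k, w ^ r ^ k = 1) : (orderOf x).Coprime (orderOf w) := by
  obtain ⟨i, hi⟩ := hx
  obtain ⟨j, hj⟩ := hw
  exact ((((Nat.coprime_primes ht hr).2 hne).pow i j).coprime_dvd_left
    (orderOf_dvd_of_pow_eq_one hi)).coprime_dvd_right (orderOf_dvd_of_pow_eq_one hj)

theorem Cfg.exists_second (K : Cfg G n₁ n₂) {x : G} {t : ℕ} (ht : t.Prime) (hx : x ∉ center G) :
    ∃ y ∈ centralizer ({x} : Set G), ∃ s, s.Prime ∧ s ≠ t ∧ (∃ k, y ^ s ^ k = 1) ∧ y ∉ center G := by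
  classical
  by_contra hno
  push Not at hno
  refine K.ns (solvable_of_twoSizes (q := t)
    (m := if (centralizer ({x} : Set G)).index = n₁ then n₂ else n₁) ht fun w hw hwc => ?_)
  obtain ⟨y, hy, s, hs, hys, hyc⟩ := exists_part hwc
  have hst : s ≠ t := fun e => by
    obtain ⟨k, hk⟩ := hys
    subst e
    have hyo : (orderOf y).Coprime s := hw.coprime_dvd_left (orderOf_dvd_of_mem_zpowers hy)
    exact hyc (orderOf_eq_one_iff.1
      (Nat.eq_one_of_dvd_coprimes (hyo.pow_right k) dvd_rfl (orderOf_dvd_of_pow_eq_one hk)) ▸ one_mem _)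
  rw [K.eqle w y hwc hyc (ClassSize.centralizer_le_of_mem_zpowers hy)]
  have hne : (centralizer ({y} : Set G)).index ≠ (centralizer ({x} : Set G)).index := fun e => by
    obtain ⟨v, hv, hvs, hvc⟩ := exists_part_ge hs (x := x) hys hyc (by rw [card_centralizer_eq e])
    obtain ⟨kv, hkv⟩ := hvs
    exact hvc (hno v hv s hs hst ⟨kv, hkv⟩)
  rcases K.sizes x hx with h1 | h1 <;> rcases K.sizes y hyc with h2 | h2
  · exact absurd (h2.trans h1.symm) hne
  · rw [if_pos h1, h2]
  · by_cases h12 : (centralizer ({x} : Set G)).index = n₁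
    · exact absurd (h2.trans h12.symm) hne
    · rw [if_neg h12, h2]
  · exact absurd (h2.trans h1.symm) hne

theorem Cfg.core (K : Cfg G n₁ n₂) {x w : G} (hx : x ∉ center G) (hw : w ∈ centralizer ({x} : Set G)) :
    centralizer ({x} : Set G) ≤ centralizer ({w} : Set G) := by
  obtain ⟨x', hx', t, ht, hxt, hxc⟩ := exists_part hx
  have he := K.eqle x x' hx hxc (ClassSize.centralizer_le_of_mem_zpowers hx')
  obtain ⟨y, hy, s, hs, hst, hys, hyc⟩ := K.exists_second ht hxc
  have hxy : centralizer ({x'} : Set G) = centralizer ({y} : Set G) :=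
    K.eqle x' y hxc hyc (K.le_of_coprime hxc (mem_centralizer_singleton_iff.1 hy : y * x' = x' * y).symm
      (coprime_of_pows ht hs (Ne.symm hst) hxt hys))
  have hmem : w ∈ centralizer ((centralizer ({x} : Set G) : Subgroup G) : Set G) := by
    refine mem_of_primePow fun v hv r j hr hj => mem_centralizer_iff.2 fun c hc => ?_
    have hvC : v ∈ centralizer ({x'} : Set G) := he ▸ zpowers_le.2 hw hv
    have hvr : ∃ k, v ^ r ^ k = 1 := ⟨j, hj ▸ pow_orderOf_eq_one v⟩
    by_cases hrt : r = t
    · exact mem_centralizer_singleton_iff.1 (K.le_of_coprime hyc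
        (mem_centralizer_singleton_iff.1 (hxy ▸ hvC) : v * y = y * v).symm
        (coprime_of_pows hs hr (hrt ▸ hst) hys hvr) (hxy ▸ he ▸ hc))
    · exact mem_centralizer_singleton_iff.1 (K.le_of_coprime hxc
        (mem_centralizer_singleton_iff.1 hvC : v * x' = x' * v).symm
        (coprime_of_pows ht hr (Ne.symm hrt) hxt hvr) (he ▸ hc))
  intro g hg
  exact mem_centralizer_singleton_iff.2 (mem_centralizer_iff.1 hmem g hg)

theorem Cfg.eq_of_mem (K : Cfg G n₁ n₂) {x a : G} (hx : x ∉ center G)
    (ha : a ∈ centralizer ({x} : Set G)) (hac : a ∉ center G) :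
    centralizer ({a} : Set G) = centralizer ({x} : Set G) :=
  (K.eqle x a hx hac (K.core hx ha)).symm

theorem Cfg.comm (K : Cfg G n₁ n₂) {x : G} (hx : x ∉ center G) :
    ∀ a ∈ centralizer ({x} : Set G), ∀ b ∈ centralizer ({x} : Set G), Commute a b :=
  fun _ ha _ hb => mem_centralizer_singleton_iff.1 (K.core hx hb ha)

theorem notMem_center_conj {a : G} (g : G) (ha : a ∉ center G) : g * a * g⁻¹ ∉ center G := fun h => by
  have h1 := (inferInstance : (center G).Normal).conj_mem _ h g⁻¹
  exact ha (by simpa [mul_assoc] using h1)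

theorem Cfg.mem_normalizer (K : Cfg G n₁ n₂) {x a g : G} (hx : x ∉ center G)
    (ha : a ∈ centralizer ({x} : Set G)) (hac : a ∉ center G)
    (hga : g * a * g⁻¹ ∈ centralizer ({x} : Set G)) :
    g ∈ normalizer ((centralizer ({x} : Set G) : Subgroup G) : Set G) := by
  rw [mem_normalizer_iff_map_conj_eq]
  have h := ClassSize.centralizer_conj g a
  rw [K.eq_of_mem hx hga (notMem_center_conj g hac), K.eq_of_mem hx ha hac] at h
  exact h.symm

theorem Cfg.moving (K : Cfg G n₁ n₂) {x w : G} {t : ℕ} (ht : t.Prime) (hx : x ∉ center G)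
    (hw : w ∈ centralizer ({x} : Set G)) (hwt : ∃ k, w ^ t ^ k = 1) (hwc : w ∉ center G)
    (hd : t ∣ (centralizer ({x} : Set G)).index) :
    ∃ g : normalizer ((centralizer ({x} : Set G) : Subgroup G) : Set G), (∃ k, g ^ t ^ k = 1) ∧
      (centralizer ({x} : Set G)).normalizerMonoidHom g ≠ 1 := by
  haveI := Fact.mk ht
  set A := centralizer ({x} : Set G) with hA
  obtain ⟨kw, hkw⟩ := hwt
  obtain ⟨T, hT⟩ := (isPGroup_tPart (t := t) (K.comm hx)).exists_le_sylow
  have hlt : tPart t A < (T : Subgroup G) := by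
    refine lt_of_le_of_ne hT fun e => T.not_dvd_index (hd.trans (index_dvd_of_le ?_))
    rw [← e]; exact tPart_le t A
  obtain ⟨g, hg, hgn⟩ := SetLike.exists_of_lt (PGroup.lt_inf_normalizer T.2 hlt)
  obtain ⟨hgT, hgN⟩ := Subgroup.mem_inf.1 hg
  obtain ⟨kg, hkg⟩ := exists_pow_of_mem_sylow T hgT
  have hgw : g * w * g⁻¹ ∈ tPart t A := (mem_normalizer_iff.1 hgN w).1 (mem_tPart_of_pow hw hkw)
  refine ⟨⟨g, K.mem_normalizer hx hw hwc (tPart_le t A hgw)⟩, ⟨kg, Subtype.ext (by simpa using hkg)⟩,
    fun h1 => hgn (mem_tPart_of_pow ?_ hkg)⟩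
  have h2 : Commute g w := (normalizerMonoidHom_eq_one _).1 h1 w hw
  rw [hA, ← K.eq_of_mem hx hw hwc]
  exact mem_centralizer_singleton_iff.2 h2

theorem Cfg.semiregular (K : Cfg G n₁ n₂) {x : G} (hx : x ∉ center G)
    [IsMulCommutative (centralizer ({x} : Set G))] :
    ClassCount.Semiregular ((center G).subgroupOf (centralizer ({x} : Set G)))
      (centralizer ({x} : Set G)).normalizerMonoidHom.range where
  fix := by
    rintro _ ⟨g, rfl⟩ z hz
    refine Subtype.ext ?_
    show (g : G) * z * (g : G)⁻¹ = z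
    have hz' : (z : G) ∈ center G := hz
    rw [mem_center_iff.1 hz' g, mul_inv_cancel_right]
  free := by
    rintro _ ⟨g, rfl⟩ a ha h
    refine (normalizerMonoidHom_eq_one g).2 fun b hb => K.comm hx _ ((K.eq_of_mem hx a.2 ha).le ?_) b hb
    exact mem_centralizer_singleton_iff.2 (mul_inv_eq_iff_eq_mul.1 (congrArg Subtype.val h))

theorem Cfg.full (K : Cfg G n₁ n₂) {x : G} (hx : x ∉ center G) :
    ∃ t w, t.Prime ∧ w ∈ centralizer ({x} : Set G) ∧ (∃ k, w ^ t ^ k = 1) ∧ w ∉ center G ∧
      ¬ t ∣ (centralizer ({x} : Set G)).index := by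
  haveI : IsMulCommutative (centralizer ({x} : Set G)) :=
    ⟨⟨fun a b => Subtype.ext (K.comm hx a a.2 b b.2).eq⟩⟩
  obtain ⟨x', hx', t, ht, hxt, hxc⟩ := exists_part hx
  have hx'C : x' ∈ centralizer ({x} : Set G) := zpowers_le.2 (mem_centralizer_singleton_iff.2 rfl) hx'
  obtain ⟨y, hy, s, hs, hst, hys, hyc⟩ := K.exists_second ht hx
  by_contra! hall
  haveI := Fact.mk ht
  haveI := Fact.mk hs
  have key : ∀ r w, Nat.Prime r → w ∈ centralizer ({x} : Set G) → (∃ k, w ^ r ^ k = 1) → w ∉ center G →
      (∃ e ∈ (centralizer ({x} : Set G)).normalizerMonoidHom.range, e ≠ 1 ∧ ∃ k, e ^ r ^ k = 1) ∧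
      ClassCount.HasPart ((center G).subgroupOf (centralizer ({x} : Set G))) r := by
    intro r w hr hw hwr hwc
    obtain ⟨k, hk⟩ := hwr
    obtain ⟨g, ⟨i, hi⟩, hg⟩ := K.moving hr hx hw ⟨k, hk⟩ hwc (hall r w hr hw ⟨k, hk⟩ hwc)
    exact ⟨⟨_, ⟨g, rfl⟩, hg, i, by rw [← map_pow, hi, map_one]⟩, ⟨w, hw⟩, hwc, k, Subtype.ext hk⟩
  obtain ⟨et, pt⟩ := key t x' ht hx'C hxt hxc
  obtain ⟨es, ps⟩ := key s y hs hy hys hyc
  exact ClassCount.Semiregular.false_of_two_primes (Ne.symm hst) pt ps _ _ rfl (K.semiregular hx) et es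

theorem Cfg.conj (K : Cfg G n₁ n₂) {x y : G} (hx : x ∉ center G) (hy : y ∉ center G)
    (h : (centralizer ({x} : Set G)).index = (centralizer ({y} : Set G)).index) :
    ∃ g : G, centralizer ({y} : Set G) = (centralizer ({x} : Set G)).map (MulAut.conj g).toMonoidHom := by
  obtain ⟨t, w, ht, hw, hwt, hwc, hd⟩ := K.full hx
  haveI := Fact.mk ht
  have hcard : Nat.card (tPart t (centralizer ({x} : Set G))) = t ^ (Nat.card G).factorization t := by
    rw [card_tPart (K.comm hx), ← card_centralizer_mul x,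
      Nat.factorization_mul Nat.card_pos.ne' index_ne_zero_of_finite, Finsupp.add_apply,
      Nat.factorization_eq_zero_of_not_dvd hd, add_zero]
  obtain ⟨T, hT⟩ := (isPGroup_tPart (t := t) (K.comm hx)).exists_le_sylow
  have hTeq := eq_of_le_of_card_ge hT (le_of_eq (by rw [hcard, T.card_eq_multiplicity]))
  obtain ⟨v, hv, ⟨kv, hkv⟩, hvc⟩ := exists_part_ge ht (x := y) hwt hwc (by
    rw [card_centralizer_eq (x := y) (y := w) (by rw [K.eq_of_mem hx hw hwc, h])])
  obtain ⟨T', hT'⟩ := ((IsPGroup.of_card_dvd_pow (n := kv) (by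
    rw [Nat.card_zpowers]; exact orderOf_dvd_of_pow_eq_one hkv)) : IsPGroup t (zpowers v)).exists_le_sylow
  obtain ⟨g, rfl⟩ := MulAction.exists_smul_eq G T T'
  have hvT := hT' (mem_zpowers v)
  rw [Sylow.coe_subgroup_smul] at hvT
  obtain ⟨u, hu, huv⟩ := hvT
  refine ⟨g, ?_⟩
  have huC : u ∈ centralizer ({x} : Set G) := tPart_le t _ (hTeq.ge hu)
  have hv' : g * u * g⁻¹ = v := huv
  have huc : u ∉ center G := fun hc => hvc (hv' ▸ by
    rw [mem_center_iff.1 hc g, mul_inv_cancel_right]; exact hc)
  rw [← K.eq_of_mem hx huC huc, ← ClassSize.centralizer_conj g u, hv', K.eq_of_mem hy hv hvc]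

/-- All centralisers self-normalise never: the class equation fails. -/
theorem Cfg.exists_selfNormalizing (K : Cfg G n₁ n₂) {a b : G} (ha : a ∉ center G) (hb : b ∉ center G)
    (hcov : ∀ y : G, y ∉ center G → (centralizer ({y} : Set G)).index = (centralizer ({a} : Set G)).index ∨
      (centralizer ({y} : Set G)).index = (centralizer ({b} : Set G)).index) :
    ∃ c : G, c ∉ center G ∧
      normalizer ((centralizer ({c} : Set G) : Subgroup G) : Set G) = centralizer ({c} : Set G) := by
  classical
  by_contra! hno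
  have key : ∀ c : G, c ∉ center G →
      let A := centralizer ({c} : Set G)
      let i := (normalizer (A : Set G)).index
      ∃ U : Set G, (∀ y : G, y ∉ center G → (centralizer ({y} : Set G)).index = A.index → y ∈ U) ∧
        U.ncard + i * Nat.card (center G) ≤ i * Nat.card A ∧ 2 * (i * Nat.card A) ≤ Nat.card G ∧ 1 ≤ i := by
    intro c hc A i
    refine ⟨Set.range (fun q : (G ⧸ normalizer (A : Set G)) × ↥((A : Set G) \ (center G : Set G)) =>
      q.1.out * (q.2 : G) * q.1.out⁻¹), ?_, ?_, ?_, Nat.one_le_iff_ne_zero.2 index_ne_zero_of_finite⟩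
    · intro y hy hyc
      obtain ⟨g, hg⟩ := K.conj hc hy hyc.symm
      obtain ⟨v, hv, hve⟩ := hg.le (mem_centralizer_singleton_iff.2 rfl : y ∈ centralizer ({y} : Set G))
      obtain ⟨n, hn⟩ : ∃ n : normalizer (A : Set G), (QuotientGroup.mk g : G ⧸ normalizer (A : Set G)).out = g * n :=
        QuotientGroup.mk_out_eq_mul _ g
      have hv' : g * v * g⁻¹ = y := hve
      refine ⟨(QuotientGroup.mk g, ⟨(n : G)⁻¹ * v * n, ?_, fun hz => hy ?_⟩), ?_⟩
      · exact (mem_normalizer_iff''.1 n.2 v).1 hv
      · have h1 := (inferInstance : (center G).Normal).conj_mem _ hz (g * n)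
        rw [← hv']
        simpa [mul_assoc] using h1
      · show (QuotientGroup.mk g : G ⧸ normalizer (A : Set G)).out * ((n : G)⁻¹ * v * n) * _ = y
        rw [hn, ← hv']; group
    · have h1 := Finite.card_range_le (fun q : (G ⧸ normalizer (A : Set G)) × ↥((A : Set G) \ (center G : Set G)) =>
        q.1.out * (q.2 : G) * q.1.out⁻¹)
      rw [Nat.card_prod, ← index_eq_card, Nat.card_coe_set_eq, Nat.card_coe_set_eq,
        Set.ncard_sdiff (fun z hz => center_le_centralizer _ hz), ← Nat.card_coe_set_eq,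
        ← Nat.card_coe_set_eq] at h1
      have h2 : Nat.card (center G) ≤ Nat.card A := card_le_of_le (center_le_centralizer _)
      calc _ ≤ i * (Nat.card A - Nat.card (center G)) + i * Nat.card (center G) := Nat.add_le_add_right h1 _
        _ = _ := by rw [← Nat.mul_add, Nat.sub_add_cancel h2]
    · have hle : A ≤ normalizer (A : Set G) := le_normalizer
      obtain ⟨k, hk⟩ := card_dvd_of_le hle
      have hk2 : 2 ≤ k := by
        by_contra hlt
        refine hno c hc (eq_of_le_of_card_ge hle ?_).symm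
        rw [hk]
        calc Nat.card A * k ≤ Nat.card A * 1 := Nat.mul_le_mul_left _ (by omega)
          _ = _ := mul_one _
      calc 2 * (i * Nat.card A) ≤ k * (i * Nat.card A) := Nat.mul_le_mul_right _ hk2
        _ = Nat.card G := by
          rw [← card_mul_index (normalizer (A : Set G)), hk]; ring
  obtain ⟨U, hU, hU1, hU2, hU3⟩ := key a ha
  obtain ⟨V, hV, hV1, hV2, hV3⟩ := key b hb
  have hsub : (center G : Set G)ᶜ ⊆ U ∪ V := fun y hy =>
    (hcov y hy).imp (hU y hy) (hV y hy)
  have h1 := (Set.ncard_le_ncard hsub).trans (Set.ncard_union_le U V)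
  rw [Set.ncard_compl] at h1
  have h2 : Nat.card (center G) ≤ Nat.card G := Nat.le_of_dvd Nat.card_pos (card_subgroup_dvd_card _)
  rw [← Nat.card_coe_set_eq] at h1
  have hz : 0 < Nat.card (center G) := Nat.card_pos
  have hU4 := Nat.mul_le_mul_right (Nat.card (center G)) hU3
  have hV4 := Nat.mul_le_mul_right (Nat.card (center G)) hV3
  have hc : Nat.card ↥((center G : Subgroup G) : Set G) = Nat.card (center G) := rfl
  omega

/-- A self-normalising centraliser forces solvability. -/
theorem Cfg.false_of_selfNormalizing (K : Cfg G n₁ n₂) {a : G} (ha : a ∉ center G)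
    (hN : normalizer ((centralizer ({a} : Set G) : Subgroup G) : Set G) = centralizer ({a} : Set G)) :
    False := by
  classical
  set A := centralizer ({a} : Set G) with hA
  set M := _root_.commutator G with hM
  haveI : M.Normal := inferInstance
  have hsz : ∀ y ∈ M, y ∉ center G → (centralizer ({y} : Set G)).index ≠ A.index := by
    intro y hyM hyc hy
    obtain ⟨g, hg⟩ := K.conj ha hyc hy.symm
    obtain ⟨y', hy', t, ht, ⟨k, hk⟩, hy'c⟩ := exists_part hyc
    haveI := Fact.mk ht
    obtain ⟨v, hv, hve⟩ := hg.le (zpowers_le.2 (mem_centralizer_singleton_iff.2 rfl) hy' :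
      y' ∈ centralizer ({y} : Set G))
    have hv' : g * v * g⁻¹ = y' := hve
    have hvc : v ∉ center G := fun hc => hy'c (hv' ▸ by
      rw [mem_center_iff.1 hc g, mul_inv_cancel_right]; exact hc)
    have hvk : v ^ t ^ k = 1 := by
      rw [← hv', conj_pow] at hk
      exact conj_eq_one_iff.1 hk
    have hd : ¬ t ∣ A.index := fun hd => by
      obtain ⟨u, -, hu⟩ := K.moving ht ha hv ⟨k, hvk⟩ hvc hd
      exact hu ((normalizerMonoidHom_eq_one u).2 fun b hb => K.comm ha _ (hN.le u.2) b hb)
    obtain ⟨T, hT⟩ := (isPGroup_tPart (t := t) (K.comm ha)).exists_le_sylow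
    have hTA : (T : Subgroup G) ≤ A := by
      refine le_trans (eq_of_le_of_card_ge hT (le_of_eq ?_)).ge (tPart_le t A)
      rw [card_tPart (K.comm ha), T.card_eq_multiplicity, ← card_centralizer_mul a,
        Nat.factorization_mul Nat.card_pos.ne' index_ne_zero_of_finite, Finsupp.add_apply,
        Nat.factorization_eq_zero_of_not_dvd hd, add_zero]
    have hvT : v ∈ (T : Subgroup G) := hT (mem_tPart_of_pow hv hvk)
    have hNC : normalizer ((T : Subgroup G) : Set G) ≤ centralizer ((T : Subgroup G) : Set G) := by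
      intro n hn
      have hnA : n ∈ A := hN.le (K.mem_normalizer ha hv hvc (hTA ((mem_normalizer_iff.1 hn v).1 hvT)))
      exact mem_centralizer_iff.2 fun b hb => (K.comm ha b (hTA hb) n hnA).eq
    have hker := MonoidHom.ker_transferSylow_isComplement' T hNC
    have hMk : M ≤ (MonoidHom.transferSylow T hNC).ker := by
      rw [hM, _root_.commutator_def, Subgroup.commutator_le]
      intro g _ h _
      rw [MonoidHom.mem_ker, map_commutatorElement, commutatorElement_eq_one_iff_mul_comm]
      exact Subtype.ext (K.comm ha _ (hTA (SetLike.coe_mem _)) _ (hTA (SetLike.coe_mem _))).eq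
    refine hy'c ?_
    have hy1 : y' = 1 := by
      refine Element.eq_one_of_mem_of_coprime (hMk (zpowers_le.2 hyM hy')) ?_
      rw [← hker.index_eq_card]
      exact (((Nat.Prime.coprime_iff_not_dvd ht).2 T.not_dvd_index).pow_left k).coprime_dvd_left
        (orderOf_dvd_of_pow_eq_one hk)
    exact hy1 ▸ one_mem _
  refine K.ns ?_
  haveI : Group.IsSolvable M := by
    by_cases hex : ∃ y ∈ M, y ∉ center G
    · obtain ⟨y₀, hy₀, hy₀c⟩ := hex
      refine solvable_of_twoSizes (q := 2) (m := (centralizer ({y₀} : Set G)).relIndex M) Nat.prime_two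
        fun w _ hw => ?_
      have hwc : (w : G) ∉ center G := fun h => hw (mem_center_iff.2 fun g =>
        Subtype.ext (mem_center_iff.1 h g))
      have hidx : (centralizer ({(w : G)} : Set G)).index = (centralizer ({y₀} : Set G)).index := by
        rcases K.sizes (w : G) hwc with h1 | h1 <;> rcases K.sizes y₀ hy₀c with h2 | h2 <;>
          rcases K.sizes a ha with h3 | h3
        all_goals first
          | exact h1.trans h2.symm
          | exact absurd (h1.trans h3.symm) (hsz w w.2 hwc)
          | exact absurd (h2.trans h3.symm) (hsz y₀ hy₀ hy₀c)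
      obtain ⟨g, hg⟩ := K.conj hy₀c hwc hidx.symm
      rw [ClassSize.centralizer_subgroupOf]
      show (centralizer ({(w : G)} : Set G)).relIndex M = _
      have hMg : M.map (MulAut.conj g).toMonoidHom = M :=
        (mem_normalizer_iff_map_conj_eq.1 ((normalizer_eq_top_iff.2 ‹M.Normal›).ge (mem_top g)))
      rw [hg]
      conv_lhs => rw [← hMg]
      exact relIndex_map_map_of_injective _ _ (MulAut.conj g).injective
    · push Not at hex
      exact Group.isSolvable_of_comm fun p q => Subtype.ext (mem_center_iff.1 (hex q q.2) p)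
  haveI : Group.IsSolvable (G ⧸ M) := Group.isSolvable_of_comm (G := Abelianization G) mul_comm
  exact (Group.isSolvable_iff_subgroup_quotient M).2 ⟨inferInstance, inferInstance⟩

/-- Two noncentral sizes without proper inclusions of centralisers force solvability. -/
theorem solvable_of_eqle (hs : ∀ x : G, x ∉ center G →
      (centralizer ({x} : Set G)).index = n₁ ∨ (centralizer ({x} : Set G)).index = n₂)
    (heq : ∀ x y : G, x ∉ center G → y ∉ center G →
      centralizer ({x} : Set G) ≤ centralizer ({y} : Set G) →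
      centralizer ({x} : Set G) = centralizer ({y} : Set G)) : Group.IsSolvable G := by
  by_contra hns
  have K : Cfg G n₁ n₂ := ⟨hs, heq, hns⟩
  obtain ⟨a, ha, ha1⟩ : ∃ a : G, a ∉ center G ∧ (centralizer ({a} : Set G)).index = n₁ := by
    by_contra! hno
    exact hns (solvable_of_twoSizes (q := 2) (m := n₂) Nat.prime_two fun x _ hx =>
      (hs x hx).resolve_left (hno x hx))
  obtain ⟨b, hb, hb2⟩ : ∃ b : G, b ∉ center G ∧ (centralizer ({b} : Set G)).index = n₂ := by
    by_contra! hno
    exact hns (solvable_of_twoSizes (q := 2) (m := n₁) Nat.prime_two fun x _ hx =>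
      (hs x hx).resolve_right (hno x hx))
  obtain ⟨c, hc, hN⟩ := K.exists_selfNormalizing ha hb fun y hy => by rw [ha1, hb2]; exact hs y hy
  exact K.false_of_selfNormalizing hc hN

end Cfsg.Agent.ThreeSizes
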